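import Mathlib

/-! A field with four elements on the numbers below four, the number `x + 2 y` standing for `x + y w`. -/

set_option autoImplicit false

namespace Cfsg.Agent.Spor.USixTwo

/-- Four elements. -/
structure K4 where
  /-- the number -/
  v : Fin 4
deriving DecidableEq

namespace K4

/-- The element of a number. -/
def of (n : ℕ) : K4 := ⟨Fin.ofNat 4 n⟩

instance : Fintype K4 := Fintype.ofEquiv (Fin 4) ⟨K4.mk, K4.v, fun _ => rfl, fun _ => rfl⟩

instance : Zero K4 := ⟨of 0⟩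
instance : One K4 := ⟨of 1⟩
instance : Add K4 := ⟨fun a b => of ((a.v.1 % 2 + b.v.1 % 2) % 2 + 2 * ((a.v.1 / 2 + b.v.1 / 2) % 2))⟩
instance : Mul K4 := ⟨fun a b => of ((a.v.1 % 2 * (b.v.1 % 2) + a.v.1 / 2 * (b.v.1 / 2)) % 2 +
  2 * ((a.v.1 % 2 * (b.v.1 / 2) + a.v.1 / 2 * (b.v.1 % 2) + a.v.1 / 2 * (b.v.1 / 2)) % 2))⟩
instance : Neg K4 := ⟨fun a => a⟩
instance : Inv K4 := ⟨fun a => of ([0, 1, 3, 2].getD a.v.1 0)⟩

instance : Field K4 :=
  Field.ofMinimalAxioms K4 (by decide +kernel) (by decide +kernel) (by decide +kernel) (by decide +kernel)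
    (by decide +kernel) (by decide +kernel) (by decide +kernel) (by decide +kernel) (by decide +kernel)
    ⟨0, 1, by decide +kernel⟩

theorem card_eq : Fintype.card K4 = 2 ^ 2 := rfl

theorem exists_of (a : K4) : ∃ n < 4, of n = a := ⟨a.v.1, a.v.2, congrArg K4.mk (Fin.ext (Nat.mod_eq_of_lt a.v.2))⟩

end K4

end Cfsg.Agent.Spor.USixTwo
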