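import Cfsg.Agent.Lib.Grp.SchurM.StemPair
import Cfsg.Agent.Lib.Spor.Cos.Sift
import Cfsg.Agent.Lib.Spor.USixTwo.Group
import Cfsg.Agent.Lib.Spor.USixTwo.SignData

/-! Two kinds of shifts modulo two. -/

set_option autoImplicit false
set_option maxRecDepth 100000
set_option maxHeartbeats 4000000

open Cfsg.Agent.Spor.Cos Cfsg.Agent.Grp.SchurM

namespace Cfsg.Agent.Spor.USixTwo

theorem homOne : actOne.Hom gT (1 : G62 →* Equiv.Perm (Fin actOne.N)) := by
  refine ⟨by decide +kernel, fun s => Equiv.ext fun p => ?_⟩
  have : Subsingleton (Fin actOne.N) := inferInstanceAs (Subsingleton (Fin 1))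
  exact Subsingleton.elim _ _

/-- The first kind. -/
def signA : SignTab := ⟨actA, 2, actOne, sgA, edA, 1, paA, 0⟩

/-- The second kind. -/
def signB : SignTab := ⟨actA, 2, actOne, sgB, edB, 1, paB, 0⟩

theorem okA : signA.Ok where
  prime := Nat.prime_two
  root_lt := by decide
  step := of_blocks (size := 21) (b := 32) (by decide) (by decide) fun j hj => by interval_cases j <;> decide +kernel
  apart := of_blocks (size := 84) (b := 8) (by decide) (by decide) fun j hj => by interval_cases j <;> decide +kernel
  pred := of_blocks (size := 336) (b := 2) (by decide) (by decide) fun j hj => by interval_cases j <;> decide +kernel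

theorem okB : signB.Ok where
  prime := Nat.prime_two
  root_lt := by decide
  step := of_blocks (size := 21) (b := 32) (by decide) (by decide) fun j hj => by interval_cases j <;> decide +kernel
  apart := of_blocks (size := 84) (b := 8) (by decide) (by decide) fun j hj => by interval_cases j <;> decide +kernel
  pred := of_blocks (size := 336) (b := 2) (by decide) (by decide) fun j hj => by interval_cases j <;> decide +kernel

theorem shiftA : signA.chkShift pairU0 pairW0 = true ∧
    Nat.beq (signB.trk signB.root (pairU0 ++ pairW0)).2 (signB.trk signB.root (pairW0 ++ pairU0)).2 = true := by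
  decide +kernel

theorem shiftB : signB.chkShift pairU1 pairW1 = true ∧
    Nat.beq (signA.trk signA.root (pairU1 ++ pairW1)).2 (signA.trk signA.root (pairW1 ++ pairU1)).2 = true := by
  decide +kernel

theorem comm0 : ev gT (pairU0 ++ pairW0) = ev gT (pairW0 ++ pairU0) :=
  ev_eq_of_agree homA det (by decide +kernel) (by decide +kernel) (by decide +kernel)

theorem comm1 : ev gT (pairU1 ++ pairW1) = ev gT (pairW1 ++ pairU1) :=
  ev_eq_of_agree homA det (by decide +kernel) (by decide +kernel) (by decide +kernel)

end Cfsg.Agent.Spor.USixTwo
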