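import Cfsg.Agent.Lib.Grp.SchurM.StemProd
import Cfsg.Agent.Lib.Spor.USixTwo.Sign
import Cfsg.Agent.S0780
import Cfsg.Agent.S0781

/-! A stem extension of `PSU₆(2)` by a group of order 12. -/

set_option autoImplicit false
set_option linter.style.haveILetI false

open Cfsg Cfsg.Agent.Spor.Cos Cfsg.Agent.Grp.SchurM Cfsg.Agent.Classical

namespace Cfsg.Agent.Spor.USixTwo

/-- The values of a kernel. -/
abbrev A12 : Type := ZMod 3 × ZMod 2 × ZMod 2

theorem commutator_SU62 : commutator SU62 = ⊤ := by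
  rw [eq_top_iff, ← Cfsg.Agent.S0780.result (F := K4) K4.card_eq 6 (by norm_num) (by omega), Subgroup.closure_le]
  rintro A ⟨v, c, hv, hA⟩
  rw [commutator_eq_closure]
  exact Subgroup.subset_closure (Cfsg.Agent.S0781.result K4.card_eq 6 (Or.inl (by norm_num)) A v c hv hA)

theorem stem_SU : Cfsg.IsStemExtension (suToPSU 6 K4 2) := by
  refine ⟨QuotientGroup.mk'_surjective _, ?_, ?_⟩
  · rw [suToPSU, QuotientGroup.ker_mk']
  · rw [commutator_SU62]; exact le_top

theorem ker_SU : Nonempty ((suToPSU 6 K4 2).ker ≃* Multiplicative (ZMod 3)) := by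
  have hk : (suToPSU 6 K4 2).ker = Subgroup.center SU62 := QuotientGroup.ker_mk' _
  let φ : Subgroup.center SU62 →* K4 :=
    { toFun := fun z => suVal z.1 0 0
      map_one' := rfl
      map_mul' := fun a b => by
        obtain ⟨c, hc⟩ := suVal_scalar_of_mem_center K4.card_eq a.2
        obtain ⟨d, hd⟩ := suVal_scalar_of_mem_center K4.card_eq b.2
        show suVal (a.1 * b.1) 0 0 = _
        rw [suVal_mul, hc, hd]
        simp [Matrix.scalar_apply] }
  have : IsCyclic (Subgroup.center SU62) := isCyclic_of_subgroup_isDomain φ fun a b h => by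
    obtain ⟨c, hc⟩ := suVal_scalar_of_mem_center K4.card_eq a.2
    obtain ⟨d, hd⟩ := suVal_scalar_of_mem_center K4.card_eq b.2
    have h' : suVal a.1 0 0 = suVal b.1 0 0 := h
    rw [hc, hd, Matrix.scalar_apply, Matrix.scalar_apply, Matrix.diagonal_apply_eq, Matrix.diagonal_apply_eq] at h'
    exact Subtype.ext (suVal_ext (by rw [hc, hd, h']))
  have hcard : Nat.card (Subgroup.center SU62) = Nat.card (Multiplicative (ZMod 3)) := by
    rw [natCard_center_SU K4.card_eq (by norm_num), Nat.card_eq_fintype_card, Fintype.card_multiplicative, ZMod.card]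
    rfl
  exact ⟨(MulEquiv.subgroupCongr hk).trans (mulEquivOfCyclicCardEq hcard)⟩

theorem exists_cover : ∃ (Γ : Type) (_ : Group Γ) (_ : Finite Γ) (σ : Γ →* G62),
    Cfsg.IsStemExtension σ ∧ Nonempty (σ.ker ≃* Multiplicative A12) := by
  obtain ⟨θA, hθA⟩ : ∃ θ : G62 →* Equiv.Perm (Fin signA.B.N), signA.B.Hom gT θ := ⟨piA, homA⟩
  obtain ⟨θB, hθB⟩ : ∃ θ : G62 →* Equiv.Perm (Fin signB.B.N), signB.B.Hom gT θ := ⟨piA, homA⟩
  have : Finite G62 := Nat.finite_of_card_ne_zero (by rw [card_G62]; norm_num)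
  obtain ⟨hA, cA⟩ := okA.stem (G := G62) (π := θA) hθA homOne rfl gen shiftA.1 comm0
  obtain ⟨hB, cB⟩ := okB.stem (G := G62) (π := θB) hθB homOne rfl gen shiftB.1 comm1
  have a₁ : Apart (signA.proj gT θA) (signB.proj gT θB) :=
    SignTab.apart (S₁ := signA) (S₂ := signB) okA okB hθA homOne rfl hθB homOne rfl rfl comm0 shiftA.1 shiftA.2
  have a₂ : Apart (signB.proj gT θB) (signA.proj gT θA) :=
    SignTab.apart (S₁ := signB) (S₂ := signA) okB okA hθB homOne rfl hθA homOne rfl rfl comm1 shiftB.1 shiftB.2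
  have := okA.finite (G := G62)
  have := okB.finite (G := G62)
  obtain ⟨U, _, _, q, hq, ⟨k⟩⟩ := exists_stem_fibre (G := G62) Nat.prime_two hA hB cA cB a₁ a₂ (MulEquiv.refl G62)
  obtain ⟨k3⟩ := ker_SU
  have c1 : Nat.card (suToPSU 6 K4 2).ker = 3 := by
    rw [Nat.card_congr k3.toEquiv, Nat.card_eq_fintype_card, Fintype.card_multiplicative, ZMod.card]
  have c2 : Nat.card q.ker = 4 := by
    rw [Nat.card_congr k.toEquiv, Nat.card_eq_fintype_card, Fintype.card_multiplicative, Fintype.card_prod, ZMod.card]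
  obtain ⟨Γ, _, _, σ, hσ, ⟨e⟩⟩ := exists_stem_prod (suToPSU 6 K4 2) q stem_SU hq c1 c2 (by norm_num)
  exact ⟨Γ, inferInstance, inferInstance, σ, hσ,
    ⟨e.trans ((k3.prodCongr k).trans (MulEquiv.prodMultiplicative (ZMod 3) (ZMod 2 × ZMod 2)).symm)⟩⟩

end Cfsg.Agent.Spor.USixTwo
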